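import Groth.Agent.Lib.LimH13.ProperDescend
import Groth.Agent.Lib.ConsH13.ApproxOver
import Groth.Agent.Lib.HensProper6.Fibres
import Groth.Agent.Lib.AlgSpDescent.NilpotentRing

/-!
# Finite type descends along proper surjective morphisms
-/

set_option autoImplicit false
set_option linter.style.haveILetI false
set_option backward.isDefEq.respectTransparency false

universe u

open CategoryTheory CategoryTheory.Limits AlgebraicGeometry Opposite

namespace Groth.Agent.LFTDesc5

variable {R A : Type u} [CommRing R] [CommRing A]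

/-- A Noetherian algebra whose spectrum has a proper cover of finite type is of finite type. -/
theorem finiteType_of_proper_surjective [IsNoetherianRing R] [IsNoetherianRing A] [Algebra R A]
    {Y : Scheme.{u}} (q : Y ⟶ Spec (CommRingCat.of A)) [IsProper q] [Surjective q]
    [LocallyOfFiniteType (q ≫ Spec.map (CommRingCat.ofHom (algebraMap R A)))] :
    (algebraMap R A).FiniteType := by
  classical
  let I : Ideal A := RingHom.ker (Coh.toGlobal q)
  have hI : I ≤ nilradical A := by
    intro a ha
    refine mem_nilradical.2 (PrimeSpectrum.basicOpen_eq_bot_iff a |>.1 ?_)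
    have h0 : q.appTop.hom ((Scheme.ΓSpecIso (CommRingCat.of A)).inv.hom a) = 0 := ha
    have h1 : q ⁻¹ᵁ (PrimeSpectrum.basicOpen a) = ⊥ := by
      erw [← basicOpen_eq_of_affine (R := CommRingCat.of A) a, Scheme.preimage_basicOpen]
      erw [h0]
      exact Scheme.basicOpen_zero _ _
    ext x
    refine ⟨fun hx => ?_, fun hx => hx.elim⟩
    obtain ⟨y, rfl⟩ := q.surjective x
    have hy : y ∈ q ⁻¹ᵁ (PrimeSpectrum.basicOpen a) := hx
    rw [h1] at hy
    exact hy.elim
  have hn : IsNilpotent I := by
    obtain ⟨n, hn⟩ := IsNoetherianRing.isNilpotent_nilradical A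
    exact ⟨n, le_bot_iff.1 ((Ideal.pow_right_mono hI n).trans hn.le)⟩
  obtain ⟨s, hs⟩ := IsNoetherian.noetherian I
  let T : (ConsH13.Over.approxDiagram R A) ⟶
      (Functor.const _).obj (Spec (CommRingCat.of R)) :=
    { app := fun S => Spec.map (CommRingCat.ofHom (algebraMap R S.unop.1))
      naturality := fun S S' a => by
        dsimp [ConsH13.Over.approxDiagram, ConsH13.Over.subFunctor]
        rw [Category.comp_id, ← Spec.map_comp]
        rfl }
  haveI : ∀ S : (ConsH13.Over.FGSub R A)ᵒᵖ, CompactSpace ((ConsH13.Over.approxDiagram R A).obj S) :=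
    fun S => inferInstance
  haveI : ∀ S : (ConsH13.Over.FGSub R A)ᵒᵖ,
      QuasiSeparatedSpace ((ConsH13.Over.approxDiagram R A).obj S) := fun S => inferInstance
  obtain ⟨S₀⟩ : Nonempty (ConsH13.Over.FGSub R A) := inferInstance
  haveI : IsProper (q : Y ⟶ (ConsH13.Over.approxCone R A).pt) := ‹IsProper q›
  haveI : LocallyOfFiniteType ((q : Y ⟶ (ConsH13.Over.approxCone R A).pt) ≫
      (ConsH13.Over.approxCone R A).π.app (op S₀) ≫ T.app (op S₀)) := by
    show LocallyOfFiniteType (q ≫ Spec.map (CommRingCat.ofHom S₀.1.val.toRingHom) ≫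
      Spec.map (CommRingCat.ofHom (algebraMap R S₀.1)))
    rw [← Spec.map_comp]
    assumption
  obtain ⟨S₁, hS₁⟩ := LimH13.exists_isProper_toStage _ _ T _ (ConsH13.Over.isLimitApproxCone R A)
    (op S₀) (q : Y ⟶ (ConsH13.Over.approxCone R A).pt)
  let S : ConsH13.Over.FGSub R A := S₁.unop ⊔ ⟨Algebra.adjoin R (s : Set A), Subalgebra.fg_adjoin_finset s⟩
  let v : S.1 →+* A := S.1.val.toRingHom
  have hp : IsProper (q ≫ Spec.map (CommRingCat.ofHom v)) :=
    hS₁ (op S) (homOfLE (le_sup_left : S₁.unop ≤ S)).op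
  haveI : Algebra.FiniteType R S.1 := (Subalgebra.fg_iff_finiteType _).1 S.2
  haveI : IsNoetherianRing S.1 := Algebra.FiniteType.isNoetherianRing R S.1
  have hfin := @HensProper6.finite_toGlobal S.1 _ _ Y (q ≫ Spec.map (CommRingCat.ofHom v)) hp
  have hcomp : Coh.toGlobal (q ≫ Spec.map (CommRingCat.ofHom v)) = (Coh.toGlobal q).comp v := by
    refine RingHom.ext fun b => ?_
    show q.appTop.hom ((Spec.map (CommRingCat.ofHom v)).appTop.hom
        ((Scheme.ΓSpecIso (CommRingCat.of S.1)).inv.hom b))
      = q.appTop.hom ((Scheme.ΓSpecIso (CommRingCat.of A)).inv.hom (v b))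
    exact congrArg _ (ConcreteCategory.congr_hom
      (Scheme.ΓSpecIso_inv_naturality (CommRingCat.ofHom v)) b).symm
  rw [hcomp] at hfin
  let J : Ideal S.1 := I.comap v
  have hJ : J.map v = I := by
    refine le_antisymm Ideal.map_comap_le ?_
    rw [← hs]
    refine Ideal.span_le.2 fun a ha => ?_
    have haS : a ∈ S.1 := (le_sup_right : (⟨_, Subalgebra.fg_adjoin_finset s⟩ :
      ConsH13.Over.FGSub R A) ≤ S) (Algebra.subset_adjoin ha)
    exact Ideal.mem_map_of_mem v (x := ⟨a, haS⟩) (show a ∈ I from hs ▸ Ideal.subset_span ha)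
  have hq : (Ideal.quotientMap (J.map v) v Ideal.le_comap_map).FiniteType := by
    refine RingHom.FiniteType.of_comp_finiteType (f := Ideal.Quotient.mk J) ?_
    rw [Ideal.quotientMap_comp_mk]
    refine RingHom.Finite.finiteType ?_
    letI : Algebra S.1 A := v.toAlgebra
    letI : Algebra S.1 Γ(Y, ⊤) := ((Coh.toGlobal q).comp v).toAlgebra
    haveI : Module.Finite S.1 Γ(Y, ⊤) := hfin
    let l : (A ⧸ J.map v) →ₗ[S.1] Γ(Y, ⊤) :=
      { toFun := Ideal.Quotient.lift (J.map v) (Coh.toGlobal q) (fun a ha => by rw [hJ] at ha; exact ha)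
        map_add' := map_add _
        map_smul' := fun b x => by
          obtain ⟨a, rfl⟩ := Ideal.Quotient.mk_surjective x
          show Coh.toGlobal q (v b * a) = Coh.toGlobal q (v b) * Coh.toGlobal q a
          exact map_mul _ _ _ }
    have hl : Function.Injective l := by
      refine (injective_iff_map_eq_zero l).2 fun x hx => ?_
      obtain ⟨a, rfl⟩ := Ideal.Quotient.mk_surjective x
      rw [Ideal.Quotient.eq_zero_iff_mem, hJ]
      exact hx
    exact Module.Finite.of_injective l hl
  obtain ⟨m, hm⟩ := hn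
  have hv : v.FiniteType := AlgSpDescent.finiteType_of_nilpotent (m := m) (by rw [hJ]; exact hm) hq
  rw [show algebraMap R A = v.comp (algebraMap R S.1) from rfl]
  exact hv.comp (RingHom.finiteType_algebraMap.2 inferInstance)

end Groth.Agent.LFTDesc5
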